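import Cfsg.Agent.H178.RG.Defs

/-!
# S5714, TEAM RG, task A2: the engine (helper358)
-/

set_option autoImplicit false

namespace Cfsg.Agent.H358.RG

open Cfsg Cfsg.Agent.OrdDiv Cfsg.Agent.H436 Cfsg.Agent.H122 Cfsg.Agent.H178.RG

/-- the coset lemma (task A1), as a proposition -/
def CosetLemma (T : Type) [Group T] : Prop :=
  ∀ A : Set T, NSet A → ∀ δ : ℝ, 0 < δ → δ * Nat.card T ≤ Nat.card A → ∀ J : ℕ, 1 ≤ J → ∀ d : ℕ, 1 ≤ d → MinDeg T d →
    ∀ (B : ℝ) (x : T), Nice B J x →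
      (Nat.card {y : T // ∀ k < J, x ^ k * y ∉ A} : ℝ) ≤ Nat.card T * ((1 / J + √B / d) / δ)

theorem card_le_sum {T : Type} [Finite T] [Fintype T] (S : Set (T × T)) {c : ℝ}
    (h : ∀ x : T, (Nat.card {y : T // (x, y) ∈ S} : ℝ) ≤ c) : (Nat.card S : ℝ) ≤ Nat.card T * c := by
  have h1 : Nat.card S = ∑ x : T, Nat.card {y : T // (x, y) ∈ S} := by
    rw [Nat.card_congr (Equiv.setProdEquivSigma S), Nat.card_sigma]
    rfl
  rw [h1, Nat.cast_sum]
  refine (Finset.sum_le_card_nsmul _ _ c fun x _ => h x).trans ?_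
  rw [Finset.card_univ, nsmul_eq_mul, Nat.card_eq_fintype_card]

theorem ncard_biUnion_le {α β : Type*} [DecidableEq β] (s : Finset β) (E : β → Set α) :
    (⋃ A ∈ s, E A).ncard ≤ ∑ A ∈ s, (E A).ncard := by
  induction s using Finset.induction_on with
  | empty => simp
  | insert a s ha ih =>
    rw [Finset.sum_insert ha, Finset.set_biUnion_insert]
    exact (Set.ncard_union_le _ _).trans (Nat.add_le_add_left ih _)

theorem engine_of {T : Type} [Group T] [Finite T] (hcos : CosetLemma T) {k F ρ B η : ℝ} {J d : ℕ} (hJ : 1 ≤ J)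
    (hd : 1 ≤ d) (hF : 0 < F) (hc : Cov T k F ρ) (hdeg : MinDeg T d) (ht : Typ T B J η) :
    (badP T : ℝ) ≤ (η + ρ + k * F * (1 / J + √B / d)) * (Nat.card T : ℝ) ^ 2 := by
  classical
  have := Fintype.ofFinite T
  obtain ⟨𝒜, W, hk, hW, hA, hM⟩ := hc
  set n : ℝ := (Nat.card T : ℝ) with hn
  have hn0 : 0 ≤ n := Nat.cast_nonneg _
  set e : ℝ := 1 / J + √B / d with he
  have he0 : 0 ≤ e := by positivity
  set N : Set (T × T) := {xy | ¬ Nice B J xy.1} with hN
  set E : Set T → Set (T × T) := fun A => {xy | Nice B J xy.1 ∧ ∀ k < J, xy.1 ^ k * xy.2 ∉ A} with hE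
  have hsub : {xy : T × T | Subgroup.closure {xy.1, xy.2} ≠ ⊤} ⊆ (W ∪ N) ∪ ⋃ A ∈ 𝒜, E A := by
    rintro ⟨x, y⟩ hxy
    rcases eq_top_or_exists_le_coatom (Subgroup.closure {x, y}) with h | ⟨M, hMc, hle⟩
    · exact absurd h hxy
    · have hx : x ∈ M := hle (Subgroup.subset_closure (by simp))
      have hy : y ∈ M := hle (Subgroup.subset_closure (by simp))
      rcases hM M hMc with ⟨A, hA1, hA2⟩ | h
      · by_cases hx' : Nice B J x
        · refine Or.inr ?_
          simp only [Set.mem_iUnion]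
          exact ⟨A, hA1, hx', fun k _ => hA2 _ (mul_mem (pow_mem hx k) hy)⟩
        · exact Or.inl (Or.inr hx')
      · exact Or.inl (Or.inl (h x hx y hy))
  have h0 : (badP T : ℝ) ≤ (W.ncard : ℝ) + N.ncard + ∑ A ∈ 𝒜, ((E A).ncard : ℝ) := by
    have h1 : badP T = {xy : T × T | Subgroup.closure {xy.1, xy.2} ≠ ⊤}.ncard := by
      unfold badP
      rw [← Nat.card_coe_set_eq]
      rfl
    have h2 : (⋃ A ∈ 𝒜, E A).ncard ≤ ∑ A ∈ 𝒜, (E A).ncard := ncard_biUnion_le 𝒜 E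
    have h3 := Set.ncard_le_ncard hsub (Set.toFinite _)
    have h4 := (h3.trans (Set.ncard_union_le _ _)).trans (Nat.add_le_add (Set.ncard_union_le W N) h2)
    rw [h1]
    exact_mod_cast h4
  have hW' : (W.ncard : ℝ) ≤ ρ * n ^ 2 := by
    rw [← Nat.card_coe_set_eq]
    exact hW
  have hN' : (N.ncard : ℝ) ≤ η * n ^ 2 := by
    have h1 : N = {x | ¬ Nice B J x} ×ˢ Set.univ := by
      ext ⟨x, y⟩
      simp [hN]
    rw [h1, Set.ncard_prod, Set.ncard_univ, Nat.cast_mul, ← Nat.card_coe_set_eq]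
    calc _ ≤ (η * n) * n := mul_le_mul_of_nonneg_right ht hn0
      _ = _ := by ring
  have hE' : ∀ A ∈ 𝒜, ((E A).ncard : ℝ) ≤ F * e * n ^ 2 := by
    intro A hA1
    obtain ⟨h1, h2⟩ := hA A hA1
    rw [← Nat.card_coe_set_eq]
    refine (card_le_sum (E A) (c := n * (F * e)) fun x => ?_).trans (le_of_eq (by ring))
    by_cases hx : Nice B J x
    · have h3 := hcos A h1 (1 / F) (by positivity) (by rw [one_div, inv_mul_le_iff₀ hF]; exact h2) J hJ d hd hdeg B x hx
      rw [div_div_eq_mul_div, div_one, mul_comm (1 / (J : ℝ) + √B / d) F] at h3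
      refine le_trans (le_of_eq ?_) h3
      congr 1
      refine Nat.card_congr (Equiv.subtypeEquivRight fun y => ?_)
      exact ⟨fun h => h.2, fun h => ⟨hx, h⟩⟩
    · have h3 : Nat.card {y : T // (x, y) ∈ E A} = 0 := by
        rw [Nat.card_eq_zero]
        exact Or.inl ⟨fun y => hx y.2.1⟩
      rw [h3, Nat.cast_zero]
      positivity
  have hS : ∑ A ∈ 𝒜, ((E A).ncard : ℝ) ≤ k * (F * e * n ^ 2) := by
    refine (Finset.sum_le_card_nsmul _ _ _ hE').trans ?_
    rw [nsmul_eq_mul]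
    exact mul_le_mul_of_nonneg_right hk (by positivity)
  calc (badP T : ℝ) ≤ ρ * n ^ 2 + η * n ^ 2 + k * (F * e * n ^ 2) := h0.trans (add_le_add (add_le_add hW' hN') hS)
    _ = _ := by ring

end Cfsg.Agent.H358.RG
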